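import Mathlib
import Groth.Agent.MorLib.UnivHomeo

/-!
# Integral morphisms with connected geometric fibres are radicial
-/

set_option autoImplicit false
set_option linter.style.haveILetI false
set_option backward.isDefEq.respectTransparency false
set_option backward.isDefEq.respectTransparency.types false

universe u

open CategoryTheory CategoryTheory.Limits AlgebraicGeometry TopologicalSpace

namespace Groth.Agent.Zar5

theorem point_Spec {K : Type u} [Field K] {X : Scheme.{u}} (x : X) (φ : X.residueField x ⟶ CommRingCat.of K) (p : ↥(Spec (CommRingCat.of K))) :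
    (Spec.map φ ≫ X.fromSpecResidueField x) p = x := by
  rw [Scheme.Hom.comp_apply, Scheme.fromSpecResidueField_apply]

theorem exists_eq_Spec {K : Type u} [Field K] {X : Scheme.{u}} (t : Spec (CommRingCat.of K) ⟶ X) {x : X}
    (hx : t (IsLocalRing.closedPoint K) = x) :
    ∃ φ : X.residueField x ⟶ CommRingCat.of K, Spec.map φ ≫ X.fromSpecResidueField x = t := by
  obtain ⟨⟨x', φ⟩, rfl⟩ := (Scheme.SpecToEquivOfField K X).symm.surjective t
  have h : x' = x := (point_Spec x' φ _).symm.trans hx
  subst h
  exact ⟨φ, rfl⟩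

theorem sections_eq {K : Type u} [Field K] {Q : Scheme.{u}} [Subsingleton ↥Q] (q : Q ⟶ Spec (CommRingCat.of K))
    (α β : Spec (CommRingCat.of K) ⟶ Q) (hα : α ≫ q = 𝟙 _) (hβ : β ≫ q = 𝟙 _) : α = β := by
  obtain ⟨x, hx⟩ : ∃ x, α (IsLocalRing.closedPoint K) = x := ⟨_, rfl⟩
  obtain ⟨φ, rfl⟩ := exists_eq_Spec α hx
  obtain ⟨φ', rfl⟩ := exists_eq_Spec β (x := x) (Subsingleton.elim _ _)
  obtain ⟨ψ, hψ⟩ := Spec.map_surjective (Q.fromSpecResidueField x ≫ q)
  rw [Category.assoc, ← hψ, ← Spec.map_comp, ← Spec.map_id] at hα hβ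
  have h1 : ∀ r, φ.hom (ψ.hom r) = r := fun r => congr($(Spec.map_injective hα).hom r)
  have h2 : ∀ r, φ'.hom (ψ.hom r) = r := fun r => congr($(Spec.map_injective hβ).hom r)
  congr 2
  ext a
  have ha : ψ.hom (φ.hom a) = a := φ.hom.injective (h1 _)
  show φ.hom a = φ'.hom a
  conv_rhs => rw [← ha]
  exact (h2 _).symm

/-- An algebra integral over a field with connected spectrum has one prime. -/
theorem subsingleton_primeSpectrum {k R : Type u} [Field k] [CommRing R] [Algebra k R] [Algebra.IsIntegral k R]
    [PreconnectedSpace (PrimeSpectrum R)] : Subsingleton (PrimeSpectrum R) := by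
  have hidem : ∀ e : R, e * e = e → e = 0 ∨ e = 1 := by
    intro e he
    have hc : IsClopen (PrimeSpectrum.zeroLocus ({e} : Set R)) := by
      refine ⟨PrimeSpectrum.isClosed_zeroLocus _, ?_⟩
      have h : PrimeSpectrum.zeroLocus ({e} : Set R) = (PrimeSpectrum.zeroLocus ({1 - e} : Set R))ᶜ := by
        ext p
        simp only [PrimeSpectrum.mem_zeroLocus, Set.singleton_subset_iff, SetLike.mem_coe, Set.mem_compl_iff]
        have h0 : e * (1 - e) ∈ p.asIdeal := by rw [mul_sub, mul_one, he, sub_self]; exact p.asIdeal.zero_mem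
        refine ⟨fun h1 h2 => p.isPrime.ne_top ((Ideal.eq_top_iff_one _).2 ?_), fun h => (p.isPrime.mem_or_mem h0).resolve_right h⟩
        simpa using p.asIdeal.add_mem h1 h2
      rw [h]
      exact (PrimeSpectrum.isClosed_zeroLocus _).isOpen_compl
    have hnil : ∀ b : R, b * b = b → (∀ p : PrimeSpectrum R, b ∈ p.asIdeal) → b = 0 := fun b hb h => by
      obtain ⟨n, hn⟩ : IsNilpotent b := nilpotent_iff_mem_prime.2 fun J hJ => h ⟨J, hJ⟩
      have hbn : ∀ m, b ^ (m + 1) = b := fun m => by
        induction m with
        | zero => simp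
        | succ m ih => rw [pow_succ, ih, hb]
      rw [← hbn n, pow_succ, hn, zero_mul]
    rcases isClopen_iff.1 hc with h | h
    · refine Or.inr ?_
      have h1 := hnil (1 - e) (by linear_combination he) fun p => by
        have h0 : e * (1 - e) ∈ p.asIdeal := by rw [mul_sub, mul_one, he, sub_self]; exact p.asIdeal.zero_mem
        refine (p.isPrime.mem_or_mem h0).resolve_left fun h2 => ?_
        exact Set.eq_empty_iff_forall_notMem.1 h p (Set.singleton_subset_iff.2 h2)
      exact (sub_eq_zero.1 h1).symm
    · exact Or.inl (hnil e he fun p => Set.singleton_subset_iff.1 (Set.eq_univ_iff_forall.1 h p))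
  have key : ∀ a : R, IsUnit a ∨ IsNilpotent a := by
    intro a
    have hint : IsIntegral k a := Algebra.IsIntegral.isIntegral a
    obtain ⟨Q, hQ, hQ0⟩ := Polynomial.exists_eq_pow_rootMultiplicity_mul_and_not_dvd
      (minpoly k a) (minpoly.ne_zero hint) 0
    rw [map_zero, sub_zero] at hQ hQ0
    have hq : Q.coeff 0 ≠ 0 := fun h => hQ0 (Polynomial.X_dvd_iff.2 h)
    generalize Polynomial.rootMultiplicity 0 (minpoly k a) = n at hQ
    have h0 := minpoly.aeval k a
    rw [hQ, map_mul, map_pow, Polynomial.aeval_X, ← Polynomial.X_mul_divX_add Q, map_add, map_mul,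
      Polynomial.aeval_X, Polynomial.aeval_C] at h0
    let c := -(algebraMap k R (Q.coeff 0)⁻¹ * Polynomial.aeval a Q.divX)
    have hstep : a ^ n = a ^ n * (a * c) := by
      have hinv : algebraMap k R (Q.coeff 0) * algebraMap k R (Q.coeff 0)⁻¹ = 1 := by
        rw [← map_mul, mul_inv_cancel₀ hq, map_one]
      linear_combination (algebraMap k R (Q.coeff 0)⁻¹) * h0 - a ^ n * hinv
    have hit : ∀ m, a ^ n = a ^ n * (a * c) ^ m := fun m => by
      induction m with
      | zero => simp
      | succ m ih => rw [pow_succ, ← mul_assoc, ← ih]; exact hstep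
    let e := (a * c) ^ n
    have he : e * e = e := by
      have h1 := hit n
      show (a * c) ^ n * (a * c) ^ n = (a * c) ^ n
      rw [mul_pow] at h1 ⊢
      linear_combination (-(c ^ n)) * h1
    rcases hidem e he with h | h
    · exact Or.inr ⟨n, by rw [hit n]; show a ^ n * e = 0; rw [h, mul_zero]⟩
    · rcases Nat.eq_zero_or_pos n with hn | hn
      · refine Or.inl (IsUnit.of_mul_eq_one c ?_)
        rw [hn, pow_zero, one_mul] at hstep
        exact hstep.symm
      · exact Or.inl (isUnit_of_mul_isUnit_left ((isUnit_pow_iff hn.ne').1 (h ▸ isUnit_one : IsUnit e)))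
  refine ⟨fun p q => PrimeSpectrum.ext (Ideal.ext fun a => ?_)⟩
  rcases key a with h | ⟨n, hn⟩
  · exact ⟨fun h' => (p.isPrime.ne_top (Ideal.eq_top_of_isUnit_mem _ h' h)).elim,
      fun h' => (q.isPrime.ne_top (Ideal.eq_top_of_isUnit_mem _ h' h)).elim⟩
  · exact ⟨fun _ => q.isPrime.mem_of_pow_mem n (hn ▸ q.asIdeal.zero_mem),
      fun _ => p.isPrime.mem_of_pow_mem n (hn ▸ p.asIdeal.zero_mem)⟩

/-- A connected scheme integral over a field is a single point. -/
theorem subsingleton_of_integral_connected {k : Type u} [Field k] {Q : Scheme.{u}} (q : Q ⟶ Spec (CommRingCat.of k))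
    [IsIntegralHom q] [ConnectedSpace Q] : Subsingleton Q := by
  haveI : IsAffine Q := isAffine_of_isAffineHom q
  letI : Algebra k Γ(Q, ⊤) := ((Scheme.ΓSpecIso (CommRingCat.of k)).inv ≫ q.appTop).hom.toAlgebra
  haveI : Algebra.IsIntegral k Γ(Q, ⊤) := by
    constructor
    intro a
    have h := IsIntegralHom.isIntegral_app q ⊤ (isAffineOpen_top _) a
    exact RingHom.IsIntegralElem.of_comp (f := (Scheme.ΓSpecIso (CommRingCat.of k)).hom.hom) (by
      have hcomp : (algebraMap k Γ(Q, ⊤)).comp (Scheme.ΓSpecIso (CommRingCat.of k)).hom.hom = q.appTop.hom := by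
        show ((Scheme.ΓSpecIso (CommRingCat.of k)).hom ≫ (Scheme.ΓSpecIso (CommRingCat.of k)).inv ≫ q.appTop).hom = _
        rw [Iso.hom_inv_id_assoc]
      rw [hcomp]
      exact h)
  let e := Q.isoSpec.hom.homeomorph
  haveI : PreconnectedSpace (PrimeSpectrum Γ(Q, ⊤)) :=
    (e.connectedSpace_iff.mp inferInstance : ConnectedSpace (PrimeSpectrum Γ(Q, ⊤))).toPreconnectedSpace
  haveI : Subsingleton ↥(Spec Γ(Q, ⊤)) := subsingleton_primeSpectrum (k := k) (R := Γ(Q, ⊤))
  exact e.injective.subsingleton

variable {X P S : Scheme.{u}} (g : X ⟶ P) (h : P ⟶ S)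

/-- An integral morphism dominated by one with connected geometric fibres is universally injective. -/
theorem universallyInjective_of_connected [IsIntegralHom h] [Surjective g] [GeometricallyConnected (g ≫ h)] :
    UniversallyInjective h := by
  rw [UniversallyInjective.iff_diagonal]
  refine ⟨fun z => ?_⟩
  let E := AlgebraicClosure ((pullback h h).residueField z)
  let γ : Spec (CommRingCat.of E) ⟶ pullback h h :=
    Spec.map (CommRingCat.ofHom (algebraMap ((pullback h h).residueField z) E)) ≫ (pullback h h).fromSpecResidueField z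
  let α := γ ≫ pullback.fst h h
  let β := γ ≫ pullback.snd h h
  let t := α ≫ h
  have hβ : β ≫ h = t := by
    simp only [α, β, t, Category.assoc, pullback.condition]
  let Q := pullback h t
  haveI : IsIntegralHom (pullback.snd h t) := MorphismProperty.pullback_snd (P := @IsIntegralHom) _ _ inferInstance
  haveI : ConnectedSpace ↥(pullback (g ≫ h) t) :=
    GeometricallyConnected.geometrically_connectedSpace (f := g ≫ h) _ _ _ (IsPullback.of_hasPullback _ _)
  let m : pullback (g ≫ h) t ⟶ Q := pullback.lift (pullback.fst _ _ ≫ g) (pullback.snd _ _) (by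
    rw [Category.assoc]; exact pullback.condition)
  have hm : IsPullback (pullback.fst (g ≫ h) t) m g (pullback.fst h t) := by
    refine IsPullback.of_bot ?_ (pullback.lift_fst _ _ _).symm (IsPullback.of_hasPullback h t)
    rw [pullback.lift_snd]
    exact IsPullback.of_hasPullback (g ≫ h) t
  haveI : Surjective m := MorphismProperty.of_isPullback hm inferInstance
  haveI : ConnectedSpace Q := m.surjective.connectedSpace m.continuous
  haveI : Subsingleton Q := subsingleton_of_integral_connected (pullback.snd h t)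
  have heq : pullback.lift α (𝟙 _) (Category.id_comp t).symm = pullback.lift β (𝟙 _) (hβ.trans (Category.id_comp t).symm) :=
    sections_eq (pullback.snd h t) _ _ (pullback.lift_snd _ _ _) (pullback.lift_snd _ _ _)
  have hαβ : α = β := by simpa using congrArg (· ≫ pullback.fst h t) heq
  have hγ : γ = α ≫ pullback.diagonal h := by
    apply pullback.hom_ext
    · simp [α]
    · simp only [Category.assoc, pullback.diagonal_snd, Category.comp_id]
      exact hαβ.symm
  refine ⟨α (IsLocalRing.closedPoint E : PrimeSpectrum E), ?_⟩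
  rw [← Scheme.Hom.comp_apply, ← hγ, Scheme.Hom.comp_apply]
  exact Scheme.fromSpecResidueField_apply z _

theorem isUnivHomeo_of_connected [IsIntegralHom h] [Surjective g] [GeometricallyConnected (g ≫ h)] :
    FlatMor.IsUnivHomeo h := by
  haveI := universallyInjective_of_connected g h
  haveI : Surjective (g ≫ h) := inferInstance
  haveI : Surjective h := Surjective.of_comp g h
  exact MorLib.isUnivHomeo_of_universallyClosed h

end Groth.Agent.Zar5
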