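import Groth.Agent.Zar5.Conn
import Groth.Agent.Zar5.Radicial
import Groth.Agent.FlatMisc.SteinUC
import Groth.Agent.Lsc5.Count
import Groth.Prelude.Def_MoreMor

/-!
# The Stein factorization of a proper morphism over an arbitrary base
-/

set_option autoImplicit false
set_option linter.style.haveILetI false
set_option backward.isDefEq.respectTransparency false
set_option backward.isDefEq.respectTransparency.types false

universe u

open CategoryTheory CategoryTheory.Limits AlgebraicGeometry TopologicalSpace

namespace Groth.Agent.Zar5

variable {X S : Scheme.{u}} (f : X ⟶ S) [IsProper f]

theorem isProper_toNormalization : IsProper f.toNormalization := by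
  haveI : IsProper (f.toNormalization ≫ f.fromNormalization) := by
    rw [f.toNormalization_fromNormalization]; infer_instance
  exact IsProper.of_comp f.toNormalization f.fromNormalization

theorem geometricallyConnected_toNormalization : GeometricallyConnected f.toNormalization := by
  haveI := isProper_toNormalization f
  exact geometricallyConnected f.toNormalization (FlatMisc.isIso_toNormalization_app f)

theorem surjective_toNormalization : Surjective f.toNormalization :=
  haveI := geometricallyConnected_toNormalization f
  inferInstance

theorem isPullback_geomπ {Y : Scheme.{u}} (q : Y ⟶ S) (s : S) :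
    IsPullback (Lsc5.geomπ q s) (pullback.snd (q.fiberToSpecResidueField s) (Lsc5.sepPt s)) q
      (Lsc5.sepPt s ≫ S.fromSpecResidueField s) :=
  (IsPullback.of_hasPullback (q.fiberToSpecResidueField s) (Lsc5.sepPt s)).paste_horiz
    (IsPullback.of_hasPullback q (S.fromSpecResidueField s))

/-- Geometric components of a proper morphism are those of its Stein factor. -/
theorem nGeomConnComp_fromNormalization (s : S) :
    MoreMor.nGeomConnComp f s = MoreMor.nGeomConnComp f.fromNormalization s := by
  haveI := isProper_toNormalization f
  haveI := geometricallyConnected_toNormalization f
  let h := f.fromNormalization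
  let g := f.toNormalization
  have hgh : g ≫ h = f := f.toNormalization_fromNormalization
  let j : MoreMor.geomFiber f s ⟶ MoreMor.geomFiber h s :=
    (isPullback_geomπ h s).lift (Lsc5.geomπ f s ≫ g) (pullback.snd (f.fiberToSpecResidueField s) (Lsc5.sepPt s))
      (by rw [Category.assoc, hgh]; exact (isPullback_geomπ f s).w)
  have hsq : IsPullback (Lsc5.geomπ f s) j g (Lsc5.geomπ h s) := by
    refine IsPullback.of_bot (v₂₁ := pullback.snd (h.fiberToSpecResidueField s) (Lsc5.sepPt s)) ?_
      ((isPullback_geomπ h s).lift_fst _ _ _).symm (isPullback_geomπ h s)
    rw [IsPullback.lift_snd, hgh]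
    exact isPullback_geomπ f s
  haveI : UniversallyClosed j := MorphismProperty.of_isPullback hsq inferInstance
  haveI : GeometricallyConnected j := MorphismProperty.of_isPullback hsq inferInstance
  have hq : Topology.IsCoinducing j :=
    (j.isClosedMap.isQuotientMap j.continuous j.surjective).isCoinducing
  exact ENat.card_congr (Equiv.ofBijective _
    (hq.connectedComponentsMap_bijective (fun p => Scheme.Hom.isConnected_preimage_singleton j p)))

theorem nGeomConnComp_lt_top (s : S) : MoreMor.nGeomConnComp f s < ⊤ := by
  let q : MoreMor.geomFiber f s ⟶ Spec (CommRingCat.of (SeparableClosure (S.residueField s))) :=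
    pullback.snd (f.fiberToSpecResidueField s) (Lsc5.sepPt s)
  haveI : LocallyOfFiniteType q :=
    MorphismProperty.pullback_snd _ _ (MorphismProperty.pullback_snd _ _ inferInstance)
  haveI : QuasiCompact q := MorphismProperty.pullback_snd _ _ (MorphismProperty.pullback_snd _ _ inferInstance)
  haveI : CompactSpace ↥(MoreMor.geomFiber f s) := QuasiCompact.compactSpace_of_compactSpace q
  haveI : IsLocallyNoetherian (MoreMor.geomFiber f s) := LocallyOfFiniteType.isLocallyNoetherian q
  haveI : AlgebraicGeometry.IsNoetherian (MoreMor.geomFiber f s) := {}
  haveI : Finite (irreducibleComponents ↥(MoreMor.geomFiber f s)) :=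
    NoetherianSpace.finite_irreducibleComponents.to_subtype
  haveI : Finite (_root_.ConnectedComponents ↥(MoreMor.geomFiber f s)) := by
    refine Finite.of_surjective (fun C : irreducibleComponents ↥(MoreMor.geomFiber f s) =>
      ConnectedComponents.mk C.2.1.nonempty.some) fun c => ?_
    obtain ⟨x, rfl⟩ := ConnectedComponents.surjective_coe c
    refine ⟨⟨_, irreducibleComponent_mem_irreducibleComponents x⟩, ConnectedComponents.coe_eq_coe'.2 ?_⟩
    exact (isIrreducible_irreducibleComponent (x := x)).2.isPreconnected.subset_connectedComponent mem_irreducibleComponent
      (Set.Nonempty.some_mem _)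
  rw [MoreMor.nGeomConnComp, ENat.card_eq_coe_natCard]
  exact ENat.coe_lt_top _

/-- With geometrically connected fibres the Stein factor is a universal homeomorphism. -/
theorem isUnivHomeo_fromNormalization [GeometricallyConnected f] : FlatMor.IsUnivHomeo f.fromNormalization := by
  haveI := surjective_toNormalization f
  haveI : GeometricallyConnected (f.toNormalization ≫ f.fromNormalization) := by
    rw [f.toNormalization_fromNormalization]; infer_instance
  exact isUnivHomeo_of_connected f.toNormalization f.fromNormalization

/-- The comparison of Stein factors under base change is a universal homeomorphism. -/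
theorem isUnivHomeo_normalizationPullback {T : Scheme.{u}} (g : T ⟶ S) :
    FlatMor.IsUnivHomeo (f.normalizationPullback g) := by
  haveI : IsProper (pullback.snd f g) := MorphismProperty.pullback_snd (P := @IsProper) _ _ inferInstance
  haveI := surjective_toNormalization (pullback.snd f g)
  haveI := geometricallyConnected_toNormalization f
  have h1 : (pullback.snd f g).toNormalization ≫ f.normalizationPullback g ≫ pullback.snd _ _ = pullback.snd f g := by
    rw [f.normalizationPullback_snd g]; exact (pullback.snd f g).toNormalization_fromNormalization
  have sq : IsPullback (pullback.fst f g) ((pullback.snd f g).toNormalization ≫ f.normalizationPullback g)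
      f.toNormalization (pullback.fst f.fromNormalization g) := by
    refine IsPullback.of_bot ?_ ?_ (IsPullback.of_hasPullback f.fromNormalization g)
    · rw [Category.assoc, h1, f.toNormalization_fromNormalization]
      exact IsPullback.of_hasPullback f g
    · rw [Category.assoc, f.toNormalization_normalizationPullback_fst g]
  haveI : GeometricallyConnected ((pullback.snd f g).toNormalization ≫ f.normalizationPullback g) :=
    MorphismProperty.of_isPullback sq inferInstance
  haveI : IsIntegralHom (f.normalizationPullback g) := inferInstance
  exact isUnivHomeo_of_connected (pullback.snd f g).toNormalization (f.normalizationPullback g)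

end Groth.Agent.Zar5
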