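import Groth.Agent.Zar5.Unibranch
import Groth.Agent.Zar5.Stein
import Groth.Agent.PnCoh.Chow.Basic

/-!
# Geometric connectedness of all fibres over a geometrically unibranch base
-/

set_option autoImplicit false
set_option linter.style.haveILetI false
set_option backward.isDefEq.respectTransparency false
set_option backward.isDefEq.respectTransparency.types false

universe u

open CategoryTheory CategoryTheory.Limits AlgebraicGeometry TopologicalSpace

namespace Groth.Agent.Zar5

/-- A geometrically unibranch local domain is `GU`. -/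
theorem GU_of_isGeomUnibranch (A : Type u) [CommRing A] [IsLocalRing A] [IsDomain A]
    (h : CAlg2.IsGeomUnibranch A) : UnivOpen.GU A :=
  (UnivOpen.GU.of_isGeomUnibranch h).of_ringEquiv
    ((RingEquiv.quotientBot A).symm.trans (Ideal.quotEquivOfEq (nilradical_eq_zero A).symm))

theorem expChar_fractionRing {R A : Type u} [CommRing R] [CommRing A] [IsDomain A] (φ : R →+* A)
    (hφ : Function.Injective φ) : ExpChar R (ringExpChar (FractionRing A)) :=
  haveI : ExpChar (FractionRing A) (ringExpChar (FractionRing A)) := ringExpChar.expChar _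
  RingHom.expChar ((algebraMap A (FractionRing A)).comp φ) ((IsFractionRing.injective A (FractionRing A)).comp hφ) _

section

variable {P S : Scheme.{u}} (π : P ⟶ S) [IsIntegral P] [IsIntegral S]

set_option maxHeartbeats 1000000 in
/-- With radicial generic fibre, the extension of rings of sections is purely inseparable. -/
theorem exists_pow_of_generic [IsIntegralHom π] [IsDominant π]
    [UniversallyInjective (pullback.snd π (S.fromSpecResidueField (genericPoint S)))]
    {U : S.Opens} (hU : IsAffineOpen U) [Nonempty U] (q : ℕ) [ExpChar (FractionRing Γ(S, U)) q]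
    (b : Γ(P, π ⁻¹ᵁ U)) :
    ∃ (n : ℕ) (a s : Γ(S, U)), s ≠ 0 ∧ π.app U s * b ^ q ^ n = π.app U a := by
  classical
  haveI : Nonempty ↥(π ⁻¹ᵁ U) := by
    obtain ⟨⟨s, hs⟩⟩ := ‹Nonempty U›
    obtain ⟨w, hw⟩ := π.denseRange.exists_mem_open U.2 ⟨s, hs⟩
    exact ⟨⟨w, hw⟩⟩
  haveI : IsDomain Γ(P, π ⁻¹ᵁ U) :=
    @IsIntegral.component_integral P _ (π ⁻¹ᵁ U) ‹Nonempty ↥(π ⁻¹ᵁ U)›
  haveI : IsDomain Γ(S, U) := IsIntegral.component_integral U
  have hV : IsAffineOpen (π ⁻¹ᵁ U) := hU.preimage π
  have hφ : Function.Injective (π.app U) := PnCoh.Chow.app_injective_of_isDominant π U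
  letI : Algebra Γ(S, U) Γ(P, π ⁻¹ᵁ U) := (π.app U).hom.toAlgebra
  haveI : Algebra.IsIntegral Γ(S, U) Γ(P, π ⁻¹ᵁ U) := ⟨IsIntegralHom.isIntegral_app π U hU⟩
  let F := FractionRing Γ(S, U)
  let K := FractionRing Γ(P, π ⁻¹ᵁ U)
  let ι : Γ(S, U) →+* K := (algebraMap Γ(P, π ⁻¹ᵁ U) K).comp (π.app U).hom
  have hι : Function.Injective ι := (IsFractionRing.injective Γ(P, π ⁻¹ᵁ U) K).comp hφ
  letI : Field F := inferInstance
  letI : Field K := inferInstance
  letI : Algebra F K := (IsFractionRing.lift (K := F) (g := ι) hι).toAlgebra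
  have hFK : ∀ r, algebraMap F K (algebraMap Γ(S, U) F r) = ι r := fun r => IsFractionRing.lift_algebraMap hι r
  haveI : IsPurelyInseparable F K := by
    rw [isPurelyInseparable_iff_subsingleton_emb]
    refine ⟨fun σ τ => AlgHom.coe_ringHom_injective ?_⟩
    let Ω := AlgebraicClosure K
    let gσ : Γ(P, π ⁻¹ᵁ U) ⟶ CommRingCat.of Ω :=
      CommRingCat.ofHom (σ.toRingHom.comp (algebraMap Γ(P, π ⁻¹ᵁ U) K))
    let gτ : Γ(P, π ⁻¹ᵁ U) ⟶ CommRingCat.of Ω :=
      CommRingCat.ofHom (τ.toRingHom.comp (algebraMap Γ(P, π ⁻¹ᵁ U) K))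
    have hagree : π.app U ≫ gσ = π.app U ≫ gτ := by
      ext r
      show σ (ι r) = τ (ι r)
      rw [← hFK, σ.commutes, τ.commutes]
    have hinj : Function.Injective (π.app U ≫ gσ).hom := σ.toRingHom.injective.comp hι
    let t := Spec.map gσ ≫ hV.fromSpec
    let t' := Spec.map gτ ≫ hV.fromSpec
    have ht : t ≫ π = Spec.map (π.app U ≫ gσ) ≫ hU.fromSpec := by
      rw [Scheme.Hom.app_eq_appLE, Spec.map_comp, Category.assoc, Category.assoc,
        hU.SpecMap_appLE_fromSpec π hV le_rfl]
    have ht' : t' ≫ π = Spec.map (π.app U ≫ gσ) ≫ hU.fromSpec := by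
      rw [hagree, Scheme.Hom.app_eq_appLE, Spec.map_comp, Category.assoc, Category.assoc,
        hU.SpecMap_appLE_fromSpec π hV le_rfl]
    have hpt : (t ≫ π) (IsLocalRing.closedPoint Ω) = genericPoint S := by
      haveI : IrreducibleSpace ↥(Spec Γ(S, U)) := inferInstance
      rw [ht, Scheme.Hom.comp_apply, ← genericPoint_eq_of_isOpenImmersion hU.fromSpec,
        genericPoint_eq_bot_of_affine]
      congr 1
      refine PrimeSpectrum.ext ?_
      show Ideal.comap (π.app U ≫ gσ).hom (IsLocalRing.maximalIdeal Ω) = ⊥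
      rw [IsLocalRing.maximalIdeal_eq_bot]
      exact Ideal.comap_bot_of_injective _ hinj
    obtain ⟨φ, hφ'⟩ := exists_eq_Spec (t ≫ π) hpt
    have key : pullback.lift t (Spec.map φ) hφ'.symm =
        pullback.lift t' (Spec.map φ) ((ht'.trans ht.symm).trans hφ'.symm) := by
      have hui : UniversallyInjective (pullback.snd π (S.fromSpecResidueField (genericPoint S))) := inferInstance
      have hK := ((tfae_universallyInjective (pullback.snd π (S.fromSpecResidueField (genericPoint S)))).out 0 1).1 hui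
      refine hK Ω ?_
      simp only [pullback.lift_snd]
    have htt : t = t' := by simpa using congrArg (· ≫ pullback.fst π _) key
    have hg : gσ = gτ := Spec.map_injective ((cancel_mono hV.fromSpec).1 htt)
    exact IsLocalization.ringHom_ext (nonZeroDivisors Γ(P, π ⁻¹ᵁ U)) (congrArg CommRingCat.Hom.hom hg)
  obtain ⟨n, x, hx⟩ := IsPurelyInseparable.pow_mem F q (algebraMap Γ(P, π ⁻¹ᵁ U) K b)
  obtain ⟨⟨a, s⟩, has⟩ := IsLocalization.surj (nonZeroDivisors Γ(S, U)) x
  refine ⟨n, a, s.1, nonZeroDivisors.ne_zero s.2, IsFractionRing.injective _ K ?_⟩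
  rw [map_mul, map_pow, ← hx, mul_comm]
  have := congrArg (algebraMap F K) has
  rw [map_mul, hFK, hFK] at this
  exact this

set_option maxHeartbeats 1000000 in
/-- An integral morphism with radicial generic fibre to a geometrically unibranch integral scheme is
universally injective. -/
theorem universallyInjective_of_GU [IsIntegralHom π] [IsDominant π]
    [UniversallyInjective (pullback.snd π (S.fromSpecResidueField (genericPoint S)))]
    (hS : ∀ s : S, CAlg2.IsGeomUnibranch (S.presheaf.stalk s)) : UniversallyInjective π := by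
  classical
  rw [UniversallyInjective.iff_diagonal]
  refine ⟨fun z => ?_⟩
  let E := AlgebraicClosure ((pullback π π).residueField z)
  let γ : Spec (CommRingCat.of E) ⟶ pullback π π :=
    Spec.map (CommRingCat.ofHom (algebraMap ((pullback π π).residueField z) E)) ≫ (pullback π π).fromSpecResidueField z
  let α := γ ≫ pullback.fst π π
  let β := γ ≫ pullback.snd π π
  have hαβπ : α ≫ π = β ≫ π := by simp only [α, β, Category.assoc, pullback.condition]
  suffices hαβ : α = β by
    have hγ : γ = α ≫ pullback.diagonal π := by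
      apply pullback.hom_ext
      · simp [α]
      · simp only [Category.assoc, pullback.diagonal_snd, Category.comp_id]
        exact hαβ.symm
    refine ⟨α (IsLocalRing.closedPoint E : PrimeSpectrum E), ?_⟩
    rw [← Scheme.Hom.comp_apply, ← hγ, Scheme.Hom.comp_apply]
    exact Scheme.fromSpecResidueField_apply z _
  obtain ⟨s, hs⟩ : ∃ s, (α ≫ π) (IsLocalRing.closedPoint E) = s := ⟨_, rfl⟩
  obtain ⟨U, hU, hsU, -⟩ : ∃ U : S.Opens, IsAffineOpen U ∧ s ∈ U ∧ True := by
    obtain ⟨_, ⟨U, hU, rfl⟩, hsU, -⟩ :=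
      S.isBasis_affineOpens.exists_subset_of_mem_open (Set.mem_univ s) isOpen_univ
    exact ⟨U, hU, hsU, trivial⟩
  haveI : Nonempty U := ⟨⟨s, hsU⟩⟩
  have hV : IsAffineOpen (π ⁻¹ᵁ U) := hU.preimage π
  have hpt : ∀ p : ↥(Spec (CommRingCat.of E)), p = IsLocalRing.closedPoint E := fun p => Subsingleton.elim _ _
  have hrange : ∀ δ : Spec (CommRingCat.of E) ⟶ P, (δ ≫ π) (IsLocalRing.closedPoint E) = s →
      ∃ g, Spec.map g ≫ hV.fromSpec = δ := fun δ hδ => by
    have h : Set.range δ ⊆ Set.range hV.fromSpec := by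
      rintro _ ⟨p, rfl⟩
      rw [hV.range_fromSpec, hpt p]
      show (δ ≫ π) (IsLocalRing.closedPoint E) ∈ U
      rw [hδ]; exact hsU
    obtain ⟨g, hg⟩ := Spec.map_surjective (IsOpenImmersion.lift hV.fromSpec δ h)
    exact ⟨g, by rw [hg, IsOpenImmersion.lift_fac]⟩
  obtain ⟨a', ha'⟩ := hrange α hs
  obtain ⟨b', hb'⟩ := hrange β (hαβπ ▸ hs)
  have hcomp : ∀ g : Γ(P, π ⁻¹ᵁ U) ⟶ CommRingCat.of E,
      Spec.map g ≫ hV.fromSpec ≫ π = Spec.map (π.app U ≫ g) ≫ hU.fromSpec := fun g => by
    rw [Scheme.Hom.app_eq_appLE, Spec.map_comp, Category.assoc, hU.SpecMap_appLE_fromSpec π hV le_rfl]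
  have hab : π.app U ≫ a' = π.app U ≫ b' := by
    refine Spec.map_injective ((cancel_mono hU.fromSpec).1 ?_)
    rw [← hcomp, ← hcomp, ← Category.assoc, ← Category.assoc, ha', hb']
    exact hαβπ
  suffices hg : a' = b' by rw [← ha', ← hb', hg]
  let p := (hU.primeIdealOf ⟨s, hsU⟩).asIdeal
  have hker : RingHom.ker (π.app U ≫ a').hom = p := by
    have h1 : Spec.map (π.app U ≫ a') (IsLocalRing.closedPoint E) = hU.primeIdealOf ⟨s, hsU⟩ := by
      apply hU.isOpenImmersion_fromSpec.base_open.injective
      refine Eq.trans ?_ (hU.fromSpec_primeIdealOf ⟨s, hsU⟩).symm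
      show (Spec.map (π.app U ≫ a') ≫ hU.fromSpec) (IsLocalRing.closedPoint E) = s
      rw [← hcomp, ← Category.assoc, ha', hs]
    show _ = (hU.primeIdealOf ⟨s, hsU⟩).asIdeal
    rw [← h1]
    show RingHom.ker _ = Ideal.comap (π.app U ≫ a').hom (IsLocalRing.maximalIdeal E)
    rw [IsLocalRing.maximalIdeal_eq_bot]
    rfl
  letI : Algebra Γ(S, U) Γ(P, π ⁻¹ᵁ U) := (π.app U).hom.toAlgebra
  haveI : Algebra.IsIntegral Γ(S, U) Γ(P, π ⁻¹ᵁ U) := ⟨IsIntegralHom.isIntegral_app π U hU⟩
  haveI : Nonempty ↥(π ⁻¹ᵁ U) := by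
    obtain ⟨w, hw⟩ := π.denseRange.exists_mem_open U.2 ⟨s, hsU⟩
    exact ⟨⟨w, hw⟩⟩
  haveI : IsDomain Γ(P, π ⁻¹ᵁ U) :=
    @IsIntegral.component_integral P _ (π ⁻¹ᵁ U) ‹Nonempty ↥(π ⁻¹ᵁ U)›
  haveI : IsDomain Γ(S, U) := IsIntegral.component_integral U
  have hφ : Function.Injective (algebraMap Γ(S, U) Γ(P, π ⁻¹ᵁ U)) := PnCoh.Chow.app_injective_of_isDominant π U
  let A := Localization.AtPrime p
  let M := Algebra.algebraMapSubmonoid Γ(P, π ⁻¹ᵁ U) p.primeCompl
  let C := Localization M
  have hM : M ≤ nonZeroDivisors Γ(P, π ⁻¹ᵁ U) := by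
    rintro _ ⟨r, hr, rfl⟩
    refine mem_nonZeroDivisors_iff_ne_zero.2 fun h => hr ?_
    rw [hφ (h.trans (map_zero _).symm)]
    exact p.zero_mem
  haveI : IsDomain C := IsLocalization.isDomain_localization hM
  haveI : Algebra.IsIntegral A C := ⟨fun c => by
    have h := isIntegral_localization (R := Γ(S, U)) (S := Γ(P, π ⁻¹ᵁ U)) (M := p.primeCompl) (Rₘ := A) (Sₘ := C) c
    rwa [← localizationAlgebraMap_def (M := p.primeCompl) (S := Γ(P, π ⁻¹ᵁ U)) A C] at h⟩
  haveI : IsDomain A := IsLocalization.isDomain_localization p.primeCompl_le_nonZeroDivisors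
  have hAC : Function.Injective (algebraMap A C) :=
    localizationAlgebra_injective (M := p.primeCompl) (S := Γ(P, π ⁻¹ᵁ U)) A C hφ
  have hA : UnivOpen.GU A := by
    letI := S.presheaf.algebra_section_stalk ⟨s, hsU⟩
    haveI := hU.isLocalization_stalk ⟨s, hsU⟩
    exact (GU_of_isGeomUnibranch _ (hS s)).of_ringEquiv
      (IsLocalization.algEquiv p.primeCompl A (S.presheaf.stalk s)).toRingEquiv
  have hRA : Function.Injective (algebraMap Γ(S, U) A) :=
    IsLocalization.injective A p.primeCompl_le_nonZeroDivisors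
  let q := ringExpChar (FractionRing A)
  haveI : ExpChar Γ(S, U) q :=
    expChar_fractionRing (algebraMap Γ(S, U) A) hRA
  haveI : ExpChar (FractionRing Γ(S, U)) q :=
    expChar_of_injective_ringHom (IsFractionRing.injective Γ(S, U) (FractionRing Γ(S, U))) q
  have hlift : ∀ g : Γ(P, π ⁻¹ᵁ U) ⟶ CommRingCat.of E, π.app U ≫ g = π.app U ≫ a' →
      ∀ m : M, IsUnit (g.hom m) := fun g hg ⟨_, r, hr, rfl⟩ => by
    refine IsUnit.mk0 _ fun h => hr ?_
    show r ∈ p
    rw [← hker, ← hg]
    exact h
  let A' : C →+* E := IsLocalization.lift (hlift a' rfl)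
  let B' : C →+* E := IsLocalization.lift (hlift b' hab.symm)
  have hA' : ∀ b, A' (algebraMap _ C b) = a'.hom b := IsLocalization.lift_eq _
  have hB' : ∀ b, B' (algebraMap _ C b) = b'.hom b := IsLocalization.lift_eq _
  have htow : ∀ r, algebraMap A C (algebraMap Γ(S, U) A r) = algebraMap _ C ((π.app U).hom r) := fun r => by
    rw [← IsScalarTower.algebraMap_apply Γ(S, U) A C]
    rfl
  have hpi : ∀ c : C, ∃ (n : ℕ) (a t : A), t ≠ 0 ∧
      algebraMap A C t * c ^ q ^ n = algebraMap A C a := fun c => by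
    obtain ⟨b, ⟨_, r, hr, rfl⟩, rfl⟩ := IsLocalization.exists_mk'_eq M c
    obtain ⟨n, a, t, ht, hat⟩ := exists_pow_of_generic π hU q b
    refine ⟨n, algebraMap _ A a, algebraMap _ A (t * r ^ q ^ n), ?_, ?_⟩
    · intro h
      refine mul_ne_zero ht (pow_ne_zero _ fun h0 => hr ?_) (hRA (h.trans (map_zero _).symm))
      rw [h0]; exact p.zero_mem
    · have hspec : IsLocalization.mk' C b (⟨_, r, hr, rfl⟩ : M) * algebraMap _ C ((π.app U).hom r) =
          algebraMap _ C b := IsLocalization.mk'_spec C b _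
      rw [htow, htow, ← hat, map_mul, map_mul, map_mul, map_pow, map_pow, map_pow, mul_assoc, ← mul_pow,
        mul_comm (algebraMap _ C ((π.app U).hom r)), hspec]
  have hRR : ∀ r, A' (algebraMap A C (algebraMap Γ(S, U) A r)) = (π.app U ≫ a').hom r := fun r => by
    rw [htow, hA']; rfl
  have heq : A' = B' := by
    refine eq_of_agree_of_GU hA hAC hpi A' B' (fun a => ?_) (fun a ha => ?_)
    · have hh : A'.comp (algebraMap A C) = B'.comp (algebraMap A C) := by
        refine IsLocalization.ringHom_ext p.primeCompl (RingHom.ext fun r => ?_)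
        show A' (algebraMap A C (algebraMap Γ(S, U) A r)) = B' (algebraMap A C (algebraMap Γ(S, U) A r))
        rw [hRR, htow, hB', hab]; rfl
      exact RingHom.congr_fun hh a
    · obtain ⟨r, t, rfl⟩ := IsLocalization.exists_mk'_eq p.primeCompl a
      have ha' : r ∈ p := (IsLocalization.AtPrime.mk'_mem_maximal_iff A p r t).1 ha
      have hmul := congrArg (A'.comp (algebraMap A C)) (IsLocalization.mk'_spec A r t)
      rw [map_mul, RingHom.comp_apply, RingHom.comp_apply, RingHom.comp_apply, hRR, hRR] at hmul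
      rw [show (π.app U ≫ a').hom r = 0 from (hker.ge ha' : r ∈ RingHom.ker _)] at hmul
      exact (mul_eq_zero.1 hmul).resolve_right fun h => t.2 (hker.le h)
  ext b
  rw [← hA', ← hB', heq]

end

/-- Over a geometrically unibranch base, a dominant proper morphism of integral schemes with
geometrically connected generic fibre has geometrically connected fibres. -/
theorem geometricallyConnected_of_GU {X S : Scheme.{u}} (f : X ⟶ S) [IsProper f] [IsDominant f]
    [IsIntegral X] [IsIntegral S] (hS : ∀ s : S, CAlg2.IsGeomUnibranch (S.presheaf.stalk s))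
    (hη : GeometricallyConnected (f.fiberToSpecResidueField (genericPoint S))) :
    GeometricallyConnected f := by
  let h := f.fromNormalization
  let g := f.toNormalization
  let i := S.fromSpecResidueField (genericPoint S)
  have hgh : g ≫ h = f := f.toNormalization_fromNormalization
  haveI : IsDominant (g ≫ h) := by rw [hgh]; infer_instance
  haveI : IsDominant h := IsDominant.of_comp g h
  haveI := geometricallyConnected_toNormalization f
  haveI := surjective_toNormalization f
  haveI := isProper_toNormalization f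
  haveI : UniversallyInjective (pullback.snd h i) := by
    let m : pullback f i ⟶ pullback h i := pullback.lift (pullback.fst f i ≫ g) (pullback.snd f i)
      (by rw [Category.assoc, hgh]; exact pullback.condition)
    have sq : IsPullback (pullback.fst f i) m g (pullback.fst h i) := by
      refine IsPullback.of_bot ?_ (pullback.lift_fst _ _ _).symm (IsPullback.of_hasPullback h i)
      rw [pullback.lift_snd, hgh]
      exact IsPullback.of_hasPullback f i
    haveI : Surjective m := MorphismProperty.of_isPullback sq inferInstance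
    haveI : GeometricallyConnected (m ≫ pullback.snd h i) := by
      rw [pullback.lift_snd]; exact hη
    haveI : IsIntegralHom (pullback.snd h i) := MorphismProperty.pullback_snd (P := @IsIntegralHom) _ _ inferInstance
    exact universallyInjective_of_connected m _
  haveI : UniversallyInjective h := universallyInjective_of_GU h hS
  haveI : Surjective h := ⟨fun s => by
    have hc : IsClosed (Set.range h) := h.isClosedMap.isClosed_range
    have := h.denseRange s
    rwa [hc.closure_eq] at this⟩
  refine ⟨fun K _ y Z fst snd hp => ?_⟩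
  let m : Z ⟶ pullback h y := pullback.lift (fst ≫ g) snd (by rw [Category.assoc, hgh]; exact hp.w)
  have sq : IsPullback fst m g (pullback.fst h y) := by
    refine IsPullback.of_bot ?_ (pullback.lift_fst _ _ _).symm (IsPullback.of_hasPullback h y)
    rw [pullback.lift_snd, hgh]
    exact hp
  haveI : GeometricallyConnected m := MorphismProperty.of_isPullback sq inferInstance
  haveI : UniversallyInjective (pullback.snd h y) := MorphismProperty.pullback_snd (P := @UniversallyInjective) _ _ inferInstance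
  haveI : Surjective (pullback.snd h y) := MorphismProperty.pullback_snd (P := @Surjective) _ _ inferInstance
  haveI : Subsingleton ↥(pullback h y) := (pullback.snd h y).injective.subsingleton
  obtain ⟨p, -⟩ := (pullback.snd h y).surjective (IsLocalRing.closedPoint K)
  have hc := Scheme.Hom.isConnected_preimage_singleton m p
  have huniv : m ⁻¹' {p} = Set.univ := Set.eq_univ_of_forall fun x => Subsingleton.elim _ _
  rw [huniv] at hc
  exact connectedSpace_iff_univ.2 hc

end Groth.Agent.Zar5
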