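import Groth.Agent.HensCouple7.Gamma
import Groth.Agent.GeomField.Connected
import Groth.Agent.Hensel.Henselization
import Groth.Agent.EtFound.ProperHenselConn
import Groth.Agent.S4366

/-!
# Zariski's connectedness theorem over an arbitrary base
-/

set_option autoImplicit false
set_option linter.style.haveILetI false
set_option backward.isDefEq.respectTransparency false
set_option backward.isDefEq.respectTransparency.types false

universe u

open CategoryTheory CategoryTheory.Limits AlgebraicGeometry TopologicalSpace

namespace Groth.Agent.Zar5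

theorem connectedSpace_of_isLocalRing (X : Scheme.{u}) [IsLocalRing Γ(X, ⊤)] : ConnectedSpace X := by
  have hne : Nonempty X := by
    by_contra h
    haveI : IsEmpty X := not_nonempty_iff.mp h
    exact one_ne_zero (α := Γ(X, ⊤))
      (HensCouple7.eq_of_basicOpen_eq (by simp) (by simp) (Subsingleton.elim _ _))
  haveI : PreconnectedSpace X := by
    refine preconnectedSpace_iff_clopen.mpr fun U hU => ?_
    obtain ⟨ε, hε, hεU⟩ := HensCouple7.exists_idempotent_of_isClopen hU
    rcases IsLocalRing.isUnit_or_isUnit_one_sub_self ε with h | h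
    · exact Or.inr (by rw [← hεU, Scheme.basicOpen_of_isUnit _ h]; rfl)
    · refine Or.inl ?_
      rw [← hεU, show ε = 0 from h.mul_left_eq_zero.mp (by linear_combination -hε),
        Scheme.basicOpen_zero]
      rfl
  exact ⟨hne⟩

/-- The closed fibre of a connected scheme proper over a henselian local ring is connected. -/
theorem connectedSpace_fibre_surjective {B l : Type u} [CommRing B] [HenselianLocalRing B] [Field l]
    (ψ : B →+* l) (hψ : Function.Surjective ψ) {X : Scheme.{u}} [ConnectedSpace X]
    (q : X ⟶ Spec (CommRingCat.of B)) [IsProper q] :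
    ConnectedSpace ↥(pullback q (Spec.map (CommRingCat.ofHom ψ))) := by
  haveI : (RingHom.ker ψ).IsMaximal := RingHom.ker_isMaximal_of_surjective ψ hψ
  have hker : RingHom.ker ψ = IsLocalRing.maximalIdeal B := IsLocalRing.eq_maximalIdeal inferInstance
  haveI : HenselianRing B (IsLocalRing.maximalIdeal B) := inferInstance
  have h := (ProperHenselConn.connectedSpace_iff (IsLocalRing.maximalIdeal B) q).1 inferInstance
  haveI : IsClosedImmersion (Spec.map (CommRingCat.ofHom ψ)) := IsClosedImmersion.spec_of_surjective _ hψ
  haveI : IsClosedImmersion (pullback.fst q (Spec.map (CommRingCat.ofHom ψ))) :=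
    MorphismProperty.pullback_fst (P := @IsClosedImmersion) _ _ inferInstance
  have hr : Set.range (pullback.fst q (Spec.map (CommRingCat.ofHom ψ))) =
      q ⁻¹' PrimeSpectrum.zeroLocus (IsLocalRing.maximalIdeal B : Set B) := by
    rw [Scheme.Pullback.range_fst, ← hker]
    congr 1
    exact range_comap_of_surjective _ ψ hψ
  let e := ((pullback.fst q (Spec.map (CommRingCat.ofHom ψ))).isEmbedding.toHomeomorph).trans (Homeomorph.setCongr hr)
  exact e.connectedSpace_iff.mpr h

variable {X Y : Scheme.{u}} (f : X ⟶ Y) [IsProper f]

/-- A separable extension of the residue field gives a connected base change of the fibre. -/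
theorem connectedSpace_sep (hf : ∀ U : Y.Opens, IsIso (f.app U)) (y : Y) (K : Type u) [Field K]
    [hK : Algebra (Y.residueField y) K] [hs : Algebra.IsSeparable (Y.residueField y) K] :
    ConnectedSpace ↥(pullback (f.fiberToSpecResidueField y)
      (Spec.map (CommRingCat.ofHom (algebraMap (Y.residueField y) K)))) := by
  let O := Y.presheaf.stalk y
  letI : Algebra (IsLocalRing.ResidueField O) K := hK
  letI : Algebra O K := ((algebraMap (IsLocalRing.ResidueField O) K).comp (IsLocalRing.residue O)).toAlgebra
  haveI : IsScalarTower O (IsLocalRing.ResidueField O) K := IsScalarTower.of_algebraMap_eq fun _ => rfl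
  haveI : Algebra.IsSeparable (IsLocalRing.ResidueField O) K := hs
  let B := Hensel.Henz O K
  let ψ : B →+* K := (Hensel.Henz.proj O K).toRingHom
  have hψ : Function.Surjective ψ := Hensel.proj_surjective_of_isSeparable
  let φ : O →+* B := algebraMap O B
  have hφψ : ψ.comp φ = (algebraMap (IsLocalRing.ResidueField O) K).comp (IsLocalRing.residue O) :=
    (Hensel.Henz.proj O K).comp_algebraMap
  obtain ⟨V, hV, hyV, -⟩ := exists_isAffineOpen_mem_and_subset (X := Y) (x := y) (U := ⊤) trivial
  haveI : IsAffine V := hV
  haveI : Flat (Spec.map (CommRingCat.ofHom φ)) := by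
    rw [HasRingHomProperty.Spec_iff (P := @Flat)]
    exact RingHom.flat_algebraMap_iff.mpr inferInstance
  haveI : Flat (V.fromSpecStalkOfMem y hyV) := by
    unfold Scheme.Opens.fromSpecStalkOfMem
    haveI := S4366.flat_fromSpecStalk (Y := V.toScheme) ⟨y, hyV⟩
    infer_instance
  let s : Spec (CommRingCat.of B) ⟶ V := Spec.map (CommRingCat.ofHom φ) ≫ V.fromSpecStalkOfMem y hyV
  haveI : Flat s := MorphismProperty.comp_mem @Flat _ _ inferInstance inferInstance
  let XB := pullback (f ∣_ V) s
  let q : XB ⟶ Spec (CommRingCat.of B) := pullback.snd _ _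
  haveI : IsProper (f ∣_ V) := MorphismProperty.of_isPullback (isPullback_morphismRestrict f V).flip inferInstance
  haveI : CompactSpace ↥(f ⁻¹ᵁ V).toScheme := QuasiCompact.compactSpace_of_compactSpace (f ∣_ V)
  haveI : QuasiSeparatedSpace ↥(f ⁻¹ᵁ V).toScheme := quasiSeparatedSpace_of_quasiSeparated (f ∣_ V)
  haveI : IsIso (f ∣_ V).appTop := by
    rw [Scheme.Hom.appTop, morphismRestrict_app]
    exact @IsIso.comp_isIso _ _ _ _ _ _ _ (hf _) (Functor.map_isIso _ _)
  haveI : IsIso q.appTop :=
    (HensCouple7.isPushout_appTop (IsPullback.of_hasPullback (f ∣_ V) s)).isIso_inr_of_isIso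
  haveI : IsLocalRing Γ(XB, ⊤) :=
    ((Scheme.ΓSpecIso (CommRingCat.of B)).symm ≪≫ asIso q.appTop).commRingCatIsoToRingEquiv.isLocalRing
  haveI := connectedSpace_of_isLocalRing XB
  haveI := connectedSpace_fibre_surjective ψ hψ q
  let w := (IsPullback.of_hasPullback (f ∣_ V) s).paste_horiz (isPullback_morphismRestrict f V).flip
  let w' := (IsPullback.of_hasPullback q (Spec.map (CommRingCat.ofHom ψ))).paste_horiz w
  have heq : Spec.map (CommRingCat.ofHom (algebraMap (Y.residueField y) K)) ≫ Y.fromSpecResidueField y =
      Spec.map (CommRingCat.ofHom ψ) ≫ s ≫ V.ι := by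
    rw [Category.assoc, Scheme.Opens.fromSpecStalkOfMem_ι, Scheme.fromSpecResidueField, ← Category.assoc,
      ← Category.assoc, ← Spec.map_comp, ← Spec.map_comp, ← CommRingCat.ofHom_comp, hφψ]
    rfl
  have : ConnectedSpace ↥(pullback f
      (Spec.map (CommRingCat.ofHom (algebraMap (Y.residueField y) K)) ≫ Y.fromSpecResidueField y)) := by
    rw [heq]
    exact (w'.isoPullback).hom.homeomorph.connectedSpace_iff.mp inferInstance
  exact (pullbackLeftPullbackSndIso f (Y.fromSpecResidueField y)
    (Spec.map (CommRingCat.ofHom (algebraMap (Y.residueField y) K)))).hom.homeomorph.connectedSpace_iff.mpr this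

/-- Zariski connectedness: no hypothesis on the base. -/
theorem geometricallyConnected_fibre (hf : ∀ U : Y.Opens, IsIso (f.app U)) (y : Y) :
    GeometricallyConnected (f.fiberToSpecResidueField y) := by
  letI : (f.fiber y).Over (Spec (CommRingCat.of (Y.residueField y))) := ⟨f.fiberToSpecResidueField y⟩
  exact GeomField.geometricallyConnected_of_separableClosure (k := Y.residueField y) (X := f.fiber y)
    (connectedSpace_sep f hf y (SeparableClosure (Y.residueField y)))

theorem geometricallyConnected (hf : ∀ U : Y.Opens, IsIso (f.app U)) : GeometricallyConnected f :=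
  (GeometricallyConnected.iff_geometricallyConnected_fiber (f := f)).mpr (geometricallyConnected_fibre f hf)

end Groth.Agent.Zar5
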