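import Groth.Agent.UnivOpen.GeomUnibranch
import Groth.Agent.Zar5.Radicial

/-!
# Radicial extensions over geometrically unibranch rings
-/

set_option autoImplicit false
set_option linter.style.haveILetI false
set_option backward.isDefEq.respectTransparency false
set_option backward.isDefEq.respectTransparency.types false

universe u

open CategoryTheory CategoryTheory.Limits AlgebraicGeometry TopologicalSpace

namespace Groth.Agent.Zar5

set_option maxHeartbeats 1600000 in
/-- Over a geometrically unibranch local domain, a purely inseparable integral extension has at most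
one point over the closed point with values in a given field. -/
theorem eq_of_agree_of_GU {A C Ω : Type u} [CommRing A] [IsLocalRing A] [IsDomain A] [CommRing C] [IsDomain C]
    [Algebra A C] [Algebra.IsIntegral A C] [Field Ω] [IsAlgClosed Ω] (hA : UnivOpen.GU A)
    (hAC : Function.Injective (algebraMap A C))
    (hpi : ∀ c : C, ∃ (n : ℕ) (a s : A), s ≠ 0 ∧
      algebraMap A C s * c ^ (ringExpChar (FractionRing A)) ^ n = algebraMap A C a)
    (α β : C →+* Ω) (h : ∀ a, α (algebraMap A C a) = β (algebraMap A C a))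
    (h0 : ∀ a ∈ IsLocalRing.maximalIdeal A, α (algebraMap A C a) = 0) : α = β := by
  classical
  obtain ⟨_, _, D, _, _, _, _, hn, hAD, hint, hins, hbir⟩ := hA
  haveI := hint
  obtain ⟨L, _, _, _, γ, hγ⟩ : ∃ (L : Type u) (_ : Field L) (_ : Algebra A L) (_ : IsAlgClosed L) (γ : C →ₐ[A] L),
      Function.Injective γ :=
    ⟨AlgebraicClosure (FractionRing C), inferInstance, inferInstance, inferInstance,
      (IsScalarTower.toAlgHom A (FractionRing C) (AlgebraicClosure (FractionRing C))).comp
        (IsScalarTower.toAlgHom A C (FractionRing C)),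
      (algebraMap (FractionRing C) (AlgebraicClosure (FractionRing C))).injective.comp
        (IsFractionRing.injective C (FractionRing C))⟩
  have hAL : Function.Injective (algebraMap A L) := by
    rw [← γ.comp_algebraMap]
    exact hγ.comp hAC
  obtain ⟨δ, hδ, hδker⟩ := UnivOpen.exists_lift_of_integral (algebraMap A L) (⊥ : Ideal D) (by
    rw [← RingHom.ker_eq_comap_bot, (RingHom.injective_iff_ker_eq_bot _).1 hAD,
      (RingHom.injective_iff_ker_eq_bot _).1 hAL])
  let δA : D →ₐ[A] L := { δ with commutes' := hδ }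
  let E := integralClosure A L
  let δ' : D →ₐ[A] E := δA.codRestrict E fun d => (Algebra.IsIntegral.isIntegral (R := A) d).map δA
  let γ' : C →ₐ[A] E := γ.codRestrict E fun c => (Algebra.IsIntegral.isIntegral (R := A) c).map γ
  have hγ' : Function.Injective γ' := fun a b hab => hγ (congrArg Subtype.val hab)
  letI : Algebra C E := γ'.toRingHom.toAlgebra
  haveI : IsScalarTower A C E := IsScalarTower.of_algebraMap_eq fun a => (γ'.commutes a).symm
  haveI : Algebra.IsIntegral A E := ⟨fun e => by
    obtain ⟨P, hP, he⟩ := e.2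
    refine ⟨P, hP, Subtype.val_injective ?_⟩
    show E.val (Polynomial.eval₂ (algebraMap A E) e P) = 0
    rw [← Polynomial.aeval_def, ← Polynomial.aeval_algHom_apply]
    exact he⟩
  haveI : Algebra.IsIntegral C E := Algebra.IsIntegral.tower_top (R := A)
  have hext : ∀ φ : C →+* Ω, ∃ ψ : E →+* Ω, ∀ c, ψ (γ' c) = φ c := fun φ => by
    haveI : (RingHom.ker φ).IsPrime := RingHom.ker_isPrime _
    obtain ⟨n', hn'p, hn'⟩ := Ideal.exists_ideal_over_prime_of_isIntegral_of_isDomain (S := E) (RingHom.ker φ) (by
      rw [show RingHom.ker (algebraMap C E) = ⊥ from (RingHom.injective_iff_ker_eq_bot _).1 hγ']; exact bot_le)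
    obtain ⟨ψ, hψ, -⟩ := UnivOpen.exists_lift_of_integral φ n' hn'
    exact ⟨ψ, hψ⟩
  obtain ⟨ψα, hψα⟩ := hext α
  obtain ⟨ψβ, hψβ⟩ := hext β
  have hA' : ∀ (φ : C →+* Ω) (ψ : E →+* Ω), (∀ c, ψ (γ' c) = φ c) → ∀ a, ψ (algebraMap A E a) = φ (algebraMap A C a) :=
    fun φ ψ hψ a => by rw [← hψ, γ'.commutes]
  have hmax : ∀ θ : D →+* Ω, (∀ a ∈ IsLocalRing.maximalIdeal A, θ (algebraMap A D a) = 0) →
      IsLocalRing.maximalIdeal D ≤ RingHom.ker θ := fun θ hθ => by
    haveI : (RingHom.ker θ).IsPrime := RingHom.ker_isPrime θ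
    have h1 : (RingHom.ker θ).comap (algebraMap A D) = IsLocalRing.maximalIdeal A :=
      le_antisymm (IsLocalRing.le_maximalIdeal_of_isPrime _) fun a ha => hθ a ha
    exact (IsLocalRing.eq_maximalIdeal (Ideal.isMaximal_of_isIntegral_of_isMaximal_comap (R := A) _
      (h1 ▸ IsLocalRing.maximalIdeal.isMaximal A))).ge
  have hDeq : ψα.comp δ'.toRingHom = ψβ.comp δ'.toRingHom := by
    have hcomm : ∀ a, δ' (algebraMap A D a) = algebraMap A E a := δ'.commutes
    refine UnivOpen.eq_of_agree_of_purelyInseparable hins _ _ (hmax _ fun a ha => ?_) (hmax _ fun a ha => ?_) fun a => ?_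
    · show ψα (δ' (algebraMap A D a)) = 0
      rw [hcomm, hA' α ψα hψα]
      exact h0 a ha
    · show ψβ (δ' (algebraMap A D a)) = 0
      rw [hcomm, hA' β ψβ hψβ, ← h]
      exact h0 a ha
    · show ψα (δ' (algebraMap A D a)) = ψβ (δ' (algebraMap A D a))
      rw [hcomm, hA' α ψα hψα, hA' β ψβ hψβ, h]
  refine RingHom.ext fun c => ?_
  obtain ⟨n, a, s, hs, hc⟩ := hpi c
  let q := ringExpChar (FractionRing A)
  let K := FractionRing A
  haveI : ExpChar K q := ringExpChar.expChar K
  -- the element in the normalization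
  let ι : K →+* L := IsFractionRing.lift (g := algebraMap A L) hAL
  haveI : ExpChar L q := expChar_of_injective_ringHom ι.injective q
  obtain ⟨d, hd⟩ : ∃ d : D, δ d = γ (c ^ q ^ n) := by
    haveI : FaithfulSMul A D := (faithfulSMul_iff_algebraMap_injective _ _).2 hAD
    letI : Algebra D L := δ.toAlgebra
    haveI : IsScalarTower A D L := IsScalarTower.of_algebraMap_eq fun r => (hδ r).symm
    have hδinj : Function.Injective δ := (RingHom.injective_iff_ker_eq_bot δ).2 hδker
    let KD := FractionRing D
    let j : KD →+* L := IsFractionRing.lift (g := δ) hδinj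
    have hs' : algebraMap A D s ≠ 0 := fun h0 => hs (hAD (by rw [h0, map_zero]))
    let z : KD := algebraMap D KD (algebraMap A D a) / algebraMap D KD (algebraMap A D s)
    have hjz : j z = γ (c ^ q ^ n) := by
      have hne : algebraMap A L s ≠ 0 := fun h0 => hs (hAL (by rw [h0, map_zero]))
      rw [map_div₀, IsFractionRing.lift_algebraMap, IsFractionRing.lift_algebraMap, hδ, hδ, div_eq_iff hne,
        ← γ.commutes, ← γ.commutes, ← map_mul, mul_comm, hc]
    have hzint : IsIntegral D z := by
      have h1 : IsIntegral D (j z) := by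
        rw [hjz]
        have h0' : IsIntegral A (γ (c ^ q ^ n)) := IsIntegral.map γ (Algebra.IsIntegral.isIntegral (R := A) (c ^ q ^ n))
        exact IsIntegral.tower_top h0'
      obtain ⟨P, hP, he⟩ := h1
      refine ⟨P, hP, j.injective ?_⟩
      rw [map_zero, Polynomial.hom_eval₂, show j.comp (algebraMap D KD) = algebraMap D L from
        RingHom.ext fun d => IsFractionRing.lift_algebraMap hδinj d]
      exact he
    obtain ⟨d, hd⟩ := IsIntegrallyClosed.isIntegral_iff.1 hzint
    exact ⟨d, by rw [← hjz, ← hd, IsFractionRing.lift_algebraMap]⟩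
  have hd' : δ' d = γ' (c ^ q ^ n) := Subtype.ext hd
  have hpow : α (c ^ q ^ n) = β (c ^ q ^ n) := by
    rw [← hψα, ← hψβ, ← hd']
    exact RingHom.congr_fun hDeq d
  rw [map_pow, map_pow] at hpow
  suffices key : ∀ q', ExpChar K q' → α c ^ q' ^ n = β c ^ q' ^ n → α c = β c from key q inferInstance hpow
  intro q' hq' hpow'
  cases hq' with
  | zero => simpa using hpow'
  | prime hq =>
    haveI : ExpChar Ω q' := by
      haveI : Fact q'.Prime := ⟨hq⟩
      have hA0 : (q' : A) = 0 := IsFractionRing.injective A K (by rw [map_natCast, map_zero, CharP.cast_eq_zero])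
      have hΩ : (q' : Ω) = 0 := by
        have := congrArg (fun r => α (algebraMap A C r)) hA0
        simpa using this
      haveI : CharP Ω q' := (CharP.charP_iff_prime_eq_zero hq).2 hΩ
      exact ExpChar.prime hq
    exact iterateFrobenius_inj Ω q' n (by simpa only [iterateFrobenius_def] using hpow')

end Groth.Agent.Zar5
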